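import Groth.Agent.QCGen.Basic
import Groth.Agent.FibVan.Top
import Groth.Agent.QCAlg.Colim
import Mathlib.Algebra.Category.ModuleCat.Colimits
import Mathlib.CategoryTheory.Limits.Constructions.Filtered
import Mathlib.CategoryTheory.Limits.Constructions.LimitsOfProductsAndEqualizers

/-!
# The top cohomology of a proper morphism is representable on quasi-coherent modules
-/

set_option autoImplicit false
set_option backward.isDefEq.respectTransparency false
set_option backward.isDefEq.respectTransparency.types false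
set_option linter.style.haveILetI false
set_option linter.unusedSectionVars false
set_option synthInstance.maxHeartbeats 100000
set_option maxHeartbeats 800000

universe u v v' w w'

open CategoryTheory Limits AlgebraicGeometry Opposite TopologicalSpace CoproductsFromFiniteFiltered

noncomputable section

namespace Groth.Agent.TopDegRep

/-- finite and directed colimits give coproducts -/
theorem preservesCoproducts {C : Type w} [Category.{v} C] {D : Type w'} [Category.{v'} D]
    [HasFiniteCoproducts C] [HasFiniteCoproducts D] (G : C ⥤ D) (α : Type u)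
    [HasColimitsOfShape (Finset (Discrete α)) C] [HasColimitsOfShape (Discrete α) C]
    [PreservesFiniteColimits G] [PreservesColimitsOfShape (Finset (Discrete α)) G] :
    PreservesColimitsOfShape (Discrete α) G := ⟨fun {K} => by
  refine preservesColimit_of_preserves_colimit_cocone (liftToFinsetColimitCocone K).isColimit ?_
  let L := liftToFinsetObj K
  let hL := isColimitOfPreserves G (colimit.isColimit L)
  let hJ : ∀ J : Finset (Discrete α), IsColimit (G.mapCocone (colimit.cocone (Discrete.functor fun x : J => K.obj x.val))) :=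
    fun J => isColimitOfPreserves G (colimit.isColimit _)
  let part : ∀ (s : Cocone (K ⋙ G)) (J : Finset (Discrete α)), G.obj (L.obj J) ⟶ s.pt := fun s J =>
    (hJ J).desc ⟨s.pt, Discrete.natTrans fun x => s.ι.app x.as.val⟩
  have part_fac : ∀ (s : Cocone (K ⋙ G)) (J : Finset (Discrete α)) (x : J),
      G.map (colimit.ι (Discrete.functor fun y : J => K.obj y.val) ⟨x⟩) ≫ part s J = s.ι.app x.val := fun s J x =>
    (hJ J).fac ⟨s.pt, Discrete.natTrans fun y => s.ι.app y.as.val⟩ ⟨x⟩
  have step : ∀ (J J' : Finset (Discrete α)) (h : J ⟶ J') (x : J),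
      colimit.ι (Discrete.functor fun y : J => K.obj y.val) ⟨x⟩ ≫ L.map h =
        colimit.ι (Discrete.functor fun y : J' => K.obj y.val) ⟨⟨x.val, (leOfHom h) x.2⟩⟩ := fun J J' h x => by
    simp [L, liftToFinsetObj]
  refine
    { desc := fun s => hL.desc ⟨s.pt, { app := part s, naturality := fun J J' h => (hJ J).hom_ext fun ⟨x⟩ => ?_ }⟩
      fac := fun s j => ?_
      uniq := fun s m hm => hL.hom_ext fun J => (hJ J).hom_ext fun ⟨x⟩ => ?_ }
  · show G.map (colimit.ι (Discrete.functor fun y : J => K.obj y.val) ⟨x⟩) ≫ G.map (L.map h) ≫ part s J' =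
      G.map (colimit.ι (Discrete.functor fun y : J => K.obj y.val) ⟨x⟩) ≫ part s J ≫ 𝟙 _
    rw [Category.comp_id]
    erw [part_fac, ← G.map_comp_assoc, step, part_fac]
  · show G.map (colimit.ι (Discrete.functor fun y : ({j} : Finset (Discrete α)) => K.obj y.val) ⟨⟨j, _⟩⟩ ≫
      colimit.ι L {j}) ≫ _ = _
    rw [G.map_comp, Category.assoc]
    erw [hL.fac]
    exact part_fac s {j} ⟨j, by simp⟩
  · erw [hL.fac]
    refine Eq.trans ?_ (part_fac s J x).symm
    rw [← hm x.val]
    show G.map _ ≫ G.map (colimit.ι L J) ≫ m = G.map (colimit.ι (Discrete.functor fun y : ({x.val} : Finset (Discrete α)) => K.obj y.val) ⟨⟨x.val, _⟩⟩ ≫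
      colimit.ι L {x.val}) ≫ m
    rw [← Category.assoc, ← G.map_comp]
    congr 2
    have hle : ({x.val} : Finset (Discrete α)) ≤ J := Finset.singleton_subset_iff.2 x.2
    rw [← colimit.w L (homOfLE hle), ← Category.assoc, step]
    rfl⟩

section

variable (A : Type u) [CommRing A] (X : Scheme.{u}) [X.Over (Spec (CommRingCat.of A))]

/-- `H^n(X, -)` on quasi-coherent modules -/
def hhFunctor (n : ℕ) : QCohCat.QCoh X ⥤ ModuleCat.{u} A where
  obj M := ModuleCat.of A (Coh.HH X M.obj n)
  map φ := ModuleCat.ofHom (CohFinite.hhMap A φ.hom n)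
  map_id M := ModuleCat.hom_ext (LinearMap.ext fun x => by
    show Sheaf.H.map ((SheafOfModules.toSheaf X.ringCatSheaf).map (𝟙 M.obj)) n x = x
    rw [CategoryTheory.Functor.map_id, Sheaf.H.map_id_apply])
  map_comp φ ψ := ModuleCat.hom_ext (LinearMap.ext fun x => CohFinite.hhMap_comp A φ.hom ψ.hom n x)

/-- the underlying abelian groups -/
def hhFunctorIso (n : ℕ) : hhFunctor A X n ⋙ forget₂ (ModuleCat.{u} A) AddCommGrpCat.{u} ≅
    (QCohCat.isQCoh X).ι ⋙ SheafOfModules.toSheaf X.ringCatSheaf ⋙
      (Sheaf.cohomologyPresheafFunctor (Opens.grothendieckTopology X) n).flip.obj (op (⊤ : X.Opens)) :=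
  NatIso.ofComponents
    (fun M => (SiteCoh.huTerminalEquiv (Opens.grothendieckTopology X) isTerminalTop (Coh.toAb M.obj) n).toAddCommGrpIso)
    (fun {M N} φ => AddCommGrpCat.hom_ext (AddMonoidHom.ext fun x => by
      show SiteCoh.huTerminalEquiv _ _ _ n (Sheaf.H.map (CohFinite.toAbMap φ.hom) n x) = _
      rw [ProjCech.huTerminalEquiv_natural]
      rfl))

variable [IsProper (X ↘ Spec (CommRingCat.of A))]

instance preservesDirected (n : ℕ) (ι : Type u) [Preorder ι] [IsDirected ι (· ≤ ·)] [Nonempty ι] :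
    PreservesColimitsOfShape ι (hhFunctor A X n) := by
  haveI : CompactSpace X := QuasiCompact.compactSpace_of_compactSpace (X ↘ Spec (CommRingCat.of A))
  haveI : QuasiSeparatedSpace X := quasiSeparatedSpace_of_quasiSeparated (X ↘ Spec (CommRingCat.of A))
  haveI : PrespectralSpace X.toTopCat := inferInstanceAs (PrespectralSpace ↥X)
  haveI : QuasiSeparatedSpace X.toTopCat := inferInstanceAs (QuasiSeparatedSpace ↥X)
  haveI : CompactSpace X.toTopCat := inferInstanceAs (CompactSpace ↥X)
  let E := (Sheaf.cohomologyPresheafFunctor (Opens.grothendieckTopology X) n).flip.obj (op (⊤ : X.Opens))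
  haveI : PreservesColimitsOfShape ι E := TopQC.preservesColimitsOfShape_HU (X := X.toTopCat) ⊤ isCompact_univ n
  haveI : PreservesColimitsOfSize.{u, u} (SheafOfModules.toSheaf.{u} X.ringCatSheaf) := inferInstance
  haveI : PreservesColimitsOfShape ι ((QCohCat.isQCoh X).ι ⋙ SheafOfModules.toSheaf X.ringCatSheaf ⋙ E) :=
    inferInstance
  haveI : PreservesColimitsOfShape ι (hhFunctor A X n ⋙ forget₂ (ModuleCat.{u} A) AddCommGrpCat.{u}) :=
    preservesColimitsOfShape_of_natIso (hhFunctorIso A X n).symm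
  exact preservesColimitsOfShape_of_reflects_of_preserves (hhFunctor A X n) (forget₂ (ModuleCat.{u} A) AddCommGrpCat.{u})

instance additive_hhFunctor (n : ℕ) : (hhFunctor A X n).Additive :=
  ⟨fun {M N φ ψ} => ModuleCat.hom_ext (LinearMap.ext fun x => by
    show Sheaf.H.map ((SheafOfModules.toSheaf X.ringCatSheaf).map (φ.hom + ψ.hom)) n x = _
    rw [Functor.map_add, Sheaf.H.map_add_apply]
    rfl)⟩

theorem preservesFiniteColimits (n : ℕ)
    (hvan : ∀ M : X.Modules, Coh.IsQCoh M → Subsingleton (Coh.HH X M (n + 1))) :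
    PreservesFiniteColimits (hhFunctor A X n) := by
  refine ((hhFunctor A X n).preservesFiniteColimits_tfae.out 0 3).1 fun S hS => ?_
  haveI : PreservesFiniteColimits (QCohCat.isQCoh X).ι := ⟨fun J _ _ => inferInstance⟩
  haveI : PreservesFiniteColimits (SheafOfModules.toSheaf X.ringCatSheaf) :=
    CohQC.toSheaf_preservesFiniteColimits X.ringCatSheaf
  let T := (QCohCat.isQCoh X).ι ⋙ SheafOfModules.toSheaf X.ringCatSheaf
  have hT : (S.map T).ShortExact := hS.map_of_exact T
  refine ⟨(ShortComplex.moduleCat_exact_iff _).2 fun x hx => ?_, (ModuleCat.epi_iff_surjective _).2 fun z => ?_⟩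
  · obtain ⟨y, hy⟩ := Abelian.Ext.covariant_sequence_exact₂ _ hT x hx
    exact ⟨y, hy⟩
  · haveI := hvan _ S.X₁.property
    obtain ⟨y, hy⟩ := Abelian.Ext.covariant_sequence_exact₃ _ hT z (rfl : n + 1 = n + 1) ((hvan _ S.X₁.property).elim _ _)
    exact ⟨y, hy⟩

theorem exists_representing (n : ℕ)
    (hvan : ∀ M : X.Modules, Coh.IsQCoh M → Subsingleton (Coh.HH X M (n + 1))) (P : ModuleCat.{u} A) :
    ∃ (ω : X.Modules), Coh.IsQCoh ω ∧ ∃ γ : Coh.HH X ω n →ₗ[A] P, ∀ F : X.Modules, Coh.IsQCoh F →
      ∀ g : Coh.HH X F n →ₗ[A] P, ∃! φ : F ⟶ ω,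
        ∀ x, γ (Sheaf.H.map ((SheafOfModules.toSheaf X.ringCatSheaf).map φ) n x) = g x := by
  haveI := preservesFiniteColimits A X n hvan
  haveI : ∀ α : Type u, PreservesColimitsOfShape (Discrete α) (hhFunctor A X n) := fun α =>
    preservesCoproducts (hhFunctor A X n) α
  haveI : PreservesColimitsOfShape WalkingParallelPair (hhFunctor A X n) := inferInstance
  haveI : PreservesColimitsOfSize.{u, u} (hhFunctor A X n) :=
    preservesColimits_of_preservesCoequalizers_and_coproducts _
  haveI := QCGen.isLeftAdjoint X (hhFunctor A X n)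
  let R := (hhFunctor A X n).rightAdjoint
  let adj : hhFunctor A X n ⊣ R := Adjunction.ofIsLeftAdjoint _
  refine ⟨(R.obj P).obj, (R.obj P).property, (adj.counit.app P).hom, fun F hF g => ?_⟩
  let F' : QCohCat.QCoh X := ⟨F, hF⟩
  have key : ∀ φ : F' ⟶ R.obj P, (∀ x, (adj.counit.app P).hom
      (Sheaf.H.map ((SheafOfModules.toSheaf X.ringCatSheaf).map φ.hom) n x) = g x) ↔
        (adj.homEquiv F' P).symm φ = ModuleCat.ofHom g := fun φ => by
    rw [Adjunction.homEquiv_counit]
    exact ⟨fun h => ModuleCat.hom_ext (LinearMap.ext h),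
      fun h x => congrArg (fun z : (hhFunctor A X n).obj F' ⟶ P => z.hom x) h⟩
  refine ⟨(adj.homEquiv F' P (ModuleCat.ofHom g)).hom, (key _).2 (Equiv.symm_apply_apply _ _), fun φ hφ => ?_⟩
  exact congrArg InducedCategory.Hom.hom
    ((Equiv.symm_apply_eq _).1 ((key (ObjectProperty.homMk φ)).1 hφ))

end

/-- dimension bound from the components -/
theorem topologicalKrullDim_le_of_components (Y : Scheme.{u}) (n : ℕ)
    (h : ∀ Z ∈ irreducibleComponents ↥Y, topologicalKrullDim ↥Z = (n : WithBot ℕ∞)) :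
    topologicalKrullDim ↥Y ≤ n := by
  refine iSup_le fun s => ?_
  obtain ⟨Z, hZ, hsZ⟩ := exists_mem_irreducibleComponents_subset_of_isIrreducible _ s.last.isIrreducible
  rw [← h Z hZ]
  have hsub : ∀ i, (s i : Set ↥Y) ⊆ Z := fun i => (SetLike.coe_subset_coe.2 (s.monotone (Fin.le_last i))).trans hsZ
  let t : LTSeries (TopologicalSpace.IrreducibleCloseds ↥Z) :=
    { length := s.length
      toFun := fun i =>
        { carrier := Subtype.val ⁻¹' (s i : Set ↥Y)
          isIrreducible' := by
            obtain ⟨⟨y, hy⟩, hpre⟩ := (s i).isIrreducible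
            refine ⟨⟨⟨y, hsub i hy⟩, hy⟩, fun U V hU hV hUn hVn => ?_⟩
            obtain ⟨U', hU', rfl⟩ := isOpen_induced_iff.1 hU
            obtain ⟨V', hV', rfl⟩ := isOpen_induced_iff.1 hV
            obtain ⟨a, ha, haU⟩ := hUn
            obtain ⟨b, hb, hbV⟩ := hVn
            obtain ⟨c, hc, hcU, hcV⟩ := hpre U' V' hU' hV' ⟨a.val, ha, haU⟩ ⟨b.val, hb, hbV⟩
            exact ⟨⟨c, hsub i hc⟩, hc, hcU, hcV⟩
          isClosed' := (s i).isClosed.preimage continuous_subtype_val }
      step := fun i => by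
        have hlt : s i.castSucc < s i.succ := s.step i
        show (_ : TopologicalSpace.IrreducibleCloseds ↥Z) < _
        refine lt_of_le_of_ne ?_ fun he => ?_
        · exact fun x hx => SetLike.coe_subset_coe.2 hlt.le hx
        · exact hlt.ne (SetLike.ext fun y => ⟨fun hy => SetLike.coe_subset_coe.2 hlt.le hy, fun hy =>
            (SetLike.ext_iff.1 he ⟨y, hsub _ hy⟩).2 hy⟩) }
  exact le_iSup (fun p : LTSeries (TopologicalSpace.IrreducibleCloseds ↥Z) => (p.length : WithBot ℕ∞)) t

end Groth.Agent.TopDegRep
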